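import Mathlib
import Cfsg.Prelude.Def_Classical
import Cfsg.Agent.Lib.Spinor.Gen
import Cfsg.Agent.Lib.Forms.Orth

/-!
Crossed homomorphisms from the derived group of an orthogonal group over the field of two elements
into the natural module: a criterion by explicit words in two generators.
-/

set_option autoImplicit false

namespace Cfsg.Agent.H1Omega

open Matrix
open scoped commutatorElement

/-- Apply a binary matrix given by its columns. -/
def ap : List ℕ → ℕ → ℕ
  | [], _ => 0
  | c :: cs, x => (if x.testBit 0 then c else 0) ^^^ ap cs (x / 2)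

/-- The action of a word. -/
def evalW (c : Fin 5 → List ℕ) (w : List (Fin 5)) (x : ℕ) : ℕ := w.foldr (fun l y => ap (c l) y) x

/-- The value of a crossed homomorphism vanishing on the first generator. -/
def accum (c : Fin 5 → List ℕ) (u : ℕ) : List (Fin 5) → ℕ
  | [] => 0
  | l :: w => (if l = 1 then u else if l = 3 then ap (c 3) u else 0) ^^^ ap (c l) (accum c u w)

/-- The binary code of a vector. -/
def enc {I : Type} [Fintype I] {n : ℕ} (code : I ≃ Fin n) (v : I → ZMod 2) : ℕ :=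
  ∑ i, if v i = 1 then 2 ^ (code i : ℕ) else 0

/-- The matrix with given columns. -/
def mat {I : Type} {n : ℕ} (code : I ≃ Fin n) (c : List ℕ) : Matrix I I (ZMod 2) :=
  Matrix.of fun i j => if (c.getD (code j) 0).testBit (code i) then 1 else 0

variable {I : Type} [Fintype I] [DecidableEq I]

/-- An isometry from columns. -/
def mkIso (Q : (I → ZMod 2) → ZMod 2) {n : ℕ} (code : I ≃ Fin n) (c c' : List ℕ)
    (h : mat code c * mat code c' = 1) (h' : mat code c' * mat code c = 1)
    (hQ : ∀ v, Q (mat code c *ᵥ v) = Q v) : Cfsg.isometryGroup (ZMod 2) Q :=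
  ⟨⟨mat code c, mat code c', h, h'⟩, fun u _ => hQ u⟩

/-- The data. -/
structure Data (Q : (I → ZMod 2) → ZMod 2) (n : ℕ) where
  code : I ≃ Fin n
  el : Fin 5 → Cfsg.isometryGroup (ZMod 2) Q
  cols : Fin 5 → List ℕ
  act : ∀ l v, enc code ((el l).1.1 *ᵥ v) = ap (cols l) (enc code v)
  bit : ∀ (v : I → ZMod 2) (i : I), (enc code v).testBit (code i) = decide (v i = 1)
  small : ∀ v : I → ZMod 2, enc code v < 2 ^ n

namespace Data

variable {Q : (I → ZMod 2) → ZMod 2} {n : ℕ} (D : Data Q n)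

local notation "O" => Cfsg.isometryGroup (ZMod 2) Q

theorem enc_inj {v w : I → ZMod 2} (h : enc D.code v = enc D.code w) : v = w := by
  funext i
  have h1 := D.bit v i
  rw [h, D.bit w i] at h1
  rcases (by decide : ∀ z : ZMod 2, z = 0 ∨ z = 1) (v i) with e | e <;>
    rcases (by decide : ∀ z : ZMod 2, z = 0 ∨ z = 1) (w i) with e' | e' <;> rw [e, e'] at h1 ⊢ <;>
    simp_all

theorem enc_add (v w : I → ZMod 2) : enc D.code (v + w) = enc D.code v ^^^ enc D.code w := by
  refine Nat.eq_of_testBit_eq fun k => ?_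
  rw [Nat.testBit_xor]
  by_cases hk : k < n
  · obtain ⟨i, hi⟩ := D.code.surjective ⟨k, hk⟩
    have e : k = (D.code i : ℕ) := by rw [hi]
    rw [e, D.bit, D.bit, D.bit, Pi.add_apply]
    exact (by decide : ∀ a b : ZMod 2, decide (a + b = 1) = (decide (a = 1) ^^ decide (b = 1))) _ _
  · have hle : 2 ^ n ≤ 2 ^ k := Nat.pow_le_pow_right (by norm_num) (Nat.le_of_not_lt hk)
    rw [Nat.testBit_lt_two_pow (lt_of_lt_of_le (D.small _) hle),
      Nat.testBit_lt_two_pow (lt_of_lt_of_le (D.small _) hle),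
      Nat.testBit_lt_two_pow (lt_of_lt_of_le (D.small _) hle)]
    rfl

theorem enc_zero : enc D.code (0 : I → ZMod 2) = 0 := by simp [enc]

/-- The isometry of a word. -/
def wp (w : List (Fin 5)) : O := (w.map D.el).prod

theorem wp_nil : D.wp [] = 1 := rfl

theorem wp_cons (l : Fin 5) (w : List (Fin 5)) : D.wp (l :: w) = D.el l * D.wp w := rfl

theorem wp_append (w w' : List (Fin 5)) : D.wp (w ++ w') = D.wp w * D.wp w' := by
  simp [wp]

theorem act_wp (w : List (Fin 5)) (v : I → ZMod 2) :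
    enc D.code ((D.wp w).1.1 *ᵥ v) = evalW D.cols w (enc D.code v) := by
  induction w with
  | nil => simp [wp_nil, evalW]
  | cons l w ih =>
    rw [wp_cons, Subgroup.coe_mul, Units.val_mul, ← Matrix.mulVec_mulVec, D.act, ih]
    rfl

/-- Two words agree on the basis. -/
def same (w w' : List (Fin 5)) : Prop :=
  ∀ k < n, evalW D.cols w (2 ^ k) = evalW D.cols w' (2 ^ k)

theorem enc_single (i : I) : enc D.code (Pi.single i 1) = 2 ^ (D.code i : ℕ) := by
  rw [enc, Finset.sum_eq_single i]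
  · simp
  · intro j _ hj
    rw [Pi.single_eq_of_ne hj, if_neg zero_ne_one]
  · simp

theorem eq_of_basis {g h : O} (H : ∀ i, enc D.code (g.1.1 *ᵥ Pi.single i 1) = enc D.code (h.1.1 *ᵥ Pi.single i 1)) :
    g = h := by
  refine Subtype.ext (Units.ext (Matrix.ext fun j i => ?_))
  have := congrFun (D.enc_inj (H i)) j
  simpa [Matrix.mulVec_single] using this

theorem wp_eq {w w' : List (Fin 5)} (h : D.same w w') : D.wp w = D.wp w' :=
  D.eq_of_basis fun i => by rw [act_wp, act_wp, enc_single]; exact h _ (D.code i).2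

/-- Every isometry is generated when the reflections are given by words. -/
theorem gen_of_refl (Q' : QuadraticForm (ZMod 2) (I → ZMod 2)) (hQ' : ⇑Q' = Q)
    (hnd : (QuadraticMap.polarBilin Q').Nondegenerate) (hdim : Fintype.card I ≠ 4)
    (rw' : ℕ → List (Fin 5))
    (hr : ∀ v : I → ZMod 2, Q v = 1 → ∀ i : I,
      evalW D.cols (rw' (enc D.code v)) (2 ^ (D.code i : ℕ)) =
        enc D.code (Pi.single i 1 + (Q (Pi.single i 1 + v) - Q (Pi.single i 1) - Q v) • v)) :
    ∀ g : O, g ∈ Subgroup.closure (Set.range D.el) := by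
  subst hQ'
  intro g
  have hgen := Spinor.reflGroup_eq_top hnd (Or.inr (by rwa [Module.finrank_fintype_fun_eq_card]))
  have hle : Spinor.reflGroup Q' ≤
      (Subgroup.closure (Set.range D.el)).map (FormsLib.oEquiv Q').toMonoidHom := by
    rw [Spinor.reflGroup, Subgroup.closure_le]
    rintro _ ⟨v, hv, rfl⟩
    have hv1 : Q' v = 1 := ((by decide : ∀ z : ZMod 2, z = 0 ∨ z = 1) _).resolve_left hv
    refine ⟨D.wp (rw' (enc D.code v)), ?_, Subtype.ext ?_⟩
    · refine Subgroup.list_prod_mem _ fun x hx => ?_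
      obtain ⟨l, -, rfl⟩ := List.mem_map.1 hx
      exact Subgroup.subset_closure ⟨l, rfl⟩
    · apply LinearEquiv.toLinearMap_injective
      apply (Pi.basisFun (ZMod 2) I).ext
      intro i
      show ((FormsLib.oEquiv Q' (D.wp (rw' (enc D.code v)))).1 : (I → ZMod 2) ≃ₗ[ZMod 2] (I → ZMod 2))
        (Pi.basisFun (ZMod 2) I i) = FormsLib.refl Q' v hv (Pi.basisFun (ZMod 2) I i)
      rw [FormsLib.oEquiv_apply, Pi.basisFun_apply, FormsLib.refl_apply]
      apply D.enc_inj
      rw [act_wp, enc_single, hr v hv1 i, hv1, inv_one, one_mul]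
      congr 1
      rw [QuadraticMap.polar]
      funext j
      simp only [Pi.add_apply, Pi.sub_apply, Pi.smul_apply, smul_eq_mul, hv1]
      simp only [CharTwo.sub_eq_add]
  have h := hle (hgen ▸ Subgroup.mem_top (FormsLib.oEquiv Q' g))
  obtain ⟨x, hx, hxg⟩ := h
  exact (FormsLib.oEquiv Q').injective hxg ▸ hx

/-- The numeric checks. -/
structure Checks where
  ca : List (Fin 5)
  cb : List (Fin 5)
  ax : List (Fin 5)
  ay : List (Fin 5)
  bx : List (Fin 5)
  bY : List (Fin 5)
  rels : List (List (Fin 5))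
  hca : ca.all (fun l => decide (l < 4)) = true
  hcb : cb.all (fun l => decide (l < 4)) = true
  inv0 : D.same [2, 0] []
  inv1 : D.same [3, 1] []
  inv4 : D.same [4, 4] []
  conj0 : D.same [4, 0, 4] ca
  conj1 : D.same [4, 1, 4] cb
  com0 : D.same ([0] ++ ay ++ ax) (ax ++ ay)
  com1 : D.same ([1] ++ bY ++ bx) (bx ++ bY)
  fpf : ∀ x < 2 ^ n, ap (D.cols 0) x = x → x = 0
  rels4 : rels.all (fun w => w.all fun l => decide (l < 4)) = true
  relOne : ∀ w ∈ rels, D.same w []
  kill : ((List.range (2 ^ n)).all fun u => u == 0 || rels.any fun w => accum D.cols u w != 0) = true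

variable {D}

theorem h1_zero (C : Checks D) (hgen : ∀ g : O, g ∈ Subgroup.closure (Set.range D.el))
    (f : ↥(commutator O) → (I → ZMod 2))
    (hf : ∀ g h : ↥(commutator O), f (g * h) = f g + (g : O).1.1 *ᵥ f h) :
    ∃ v, ∀ g : ↥(commutator O), f g = (g : O).1.1 *ᵥ v - v := by
  classical
  obtain ⟨K, hK⟩ : ∃ K : Subgroup O, K = Subgroup.closure {D.el 0, D.el 1} := ⟨_, rfl⟩
  have h0 : D.el 0 ∈ K := hK ▸ Subgroup.subset_closure (Or.inl rfl)
  have h1 : D.el 1 ∈ K := hK ▸ Subgroup.subset_closure (Or.inr rfl)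
  have e2 : D.el 2 = (D.el 0)⁻¹ := eq_inv_of_mul_eq_one_left (by
    have := D.wp_eq C.inv0; rwa [wp_cons, wp_cons, wp_nil, mul_one] at this)
  have e3 : D.el 3 = (D.el 1)⁻¹ := eq_inv_of_mul_eq_one_left (by
    have := D.wp_eq C.inv1; rwa [wp_cons, wp_cons, wp_nil, mul_one] at this)
  have e4 : D.el 4 * D.el 4 = 1 := by
    have := D.wp_eq C.inv4; rwa [wp_cons, wp_cons, wp_nil, mul_one] at this
  have hlow : ∀ l : Fin 5, l < 4 → D.el l ∈ K := by
    intro l hl
    fin_cases l
    · exact h0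
    · exact h1
    · show D.el 2 ∈ K; rw [e2]; exact K.inv_mem h0
    · show D.el 3 ∈ K; rw [e3]; exact K.inv_mem h1
    · exact absurd hl (by decide)
  have hword : ∀ w : List (Fin 5), w.all (fun l => decide (l < 4)) = true → D.wp w ∈ K := by
    intro w hw
    refine Subgroup.list_prod_mem _ fun x hx => ?_
    obtain ⟨l, hl, rfl⟩ := List.mem_map.1 hx
    exact hlow l (of_decide_eq_true (List.all_eq_true.1 hw l hl))
  have hr : ∀ k ∈ K, D.el 4 * k * D.el 4 ∈ K := by
    intro k hk
    rw [hK] at hk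
    induction hk using Subgroup.closure_induction with
    | mem x hx =>
      rcases hx with rfl | rfl
      · have := hword _ C.hca
        rwa [← D.wp_eq C.conj0, wp_cons, wp_cons, wp_cons, wp_nil, mul_one, ← mul_assoc] at this
      · have := hword _ C.hcb
        rwa [← D.wp_eq C.conj1, wp_cons, wp_cons, wp_cons, wp_nil, mul_one, ← mul_assoc] at this
    | one => rw [mul_one, e4]; exact one_mem _
    | mul a b _ _ ha hb =>
      rw [show D.el 4 * (a * b) * D.el 4 = D.el 4 * a * D.el 4 * ((D.el 4 * D.el 4)⁻¹ * (D.el 4 * b * D.el 4)) by group,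
        e4, inv_one, one_mul]
      exact K.mul_mem ha hb
    | inv a _ ha =>
      rw [show D.el 4 * a⁻¹ * D.el 4 = (D.el 4 * D.el 4) * (D.el 4 * a * D.el 4)⁻¹ * (D.el 4 * D.el 4) by group,
        e4, one_mul, mul_one]
      exact K.inv_mem ha
  have hcov : ∀ g : O, g ∈ K ∨ g * D.el 4 ∈ K := by
    intro g
    induction hgen g using Subgroup.closure_induction with
    | mem x hx =>
      obtain ⟨l, rfl⟩ := hx
      by_cases hl : l < 4
      · exact Or.inl (hlow l hl)
      · right
        rw [show l = 4 from le_antisymm (Fin.le_last l) (not_lt.1 hl), e4]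
        exact one_mem _
    | one => exact Or.inl (one_mem _)
    | mul a b _ _ ha hb =>
      rcases ha with ha | ha <;> rcases hb with hb | hb
      · exact Or.inl (K.mul_mem ha hb)
      · exact Or.inr (by rw [mul_assoc]; exact K.mul_mem ha hb)
      · right
        rw [show a * b * D.el 4 = a * D.el 4 * ((D.el 4)⁻¹ * b * D.el 4) by group,
          inv_eq_of_mul_eq_one_right e4]
        exact K.mul_mem ha (hr _ hb)
      · left
        rw [show a * b = a * D.el 4 * ((D.el 4)⁻¹ * (b * D.el 4) * (D.el 4)⁻¹) by group,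
          inv_eq_of_mul_eq_one_right e4]
        exact K.mul_mem ha (hr _ hb)
    | inv a _ ha =>
      rcases ha with ha | ha
      · exact Or.inl (K.inv_mem ha)
      · right
        rw [show a⁻¹ * D.el 4 = D.el 4 * (a * D.el 4)⁻¹ * D.el 4 by group]
        exact hr _ (K.inv_mem ha)
  have hcomm : commutator O ≤ K := by
    haveI hKn : K.Normal := ⟨fun k hk g => by
      rcases hcov g with hg | hg
      · exact K.mul_mem (K.mul_mem hg hk) (K.inv_mem hg)
      · rw [show g * k * g⁻¹ = g * D.el 4 * ((D.el 4)⁻¹ * k * D.el 4) * (g * D.el 4)⁻¹ by group,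
          inv_eq_of_mul_eq_one_right e4]
        exact K.mul_mem (K.mul_mem hg (hr _ hk)) (K.inv_mem hg)⟩
    rw [_root_.commutator_def, Subgroup.commutator_le]
    intro a _ b _
    rw [← QuotientGroup.eq_one_iff (N := K)]
    have hq : ∀ g : O, (g : O ⧸ K) = 1 ∨ (g : O ⧸ K) = (D.el 4 : O ⧸ K) := fun g => by
      rcases hcov g with hg | hg
      · exact Or.inl ((QuotientGroup.eq_one_iff _).2 hg)
      · right
        have h4 : ((g * D.el 4 : O) : O ⧸ K) = 1 := (QuotientGroup.eq_one_iff _).2 hg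
        rw [QuotientGroup.mk_mul, mul_eq_one_iff_eq_inv, ← QuotientGroup.mk_inv,
          inv_eq_of_mul_eq_one_right e4] at h4
        exact h4
    have : (a : O ⧸ K) * (b : O ⧸ K) = (b : O ⧸ K) * (a : O ⧸ K) := by
      rcases hq a with ea | ea <;> rcases hq b with eb | eb <;> rw [ea, eb] <;> simp
    show ((a * b * a⁻¹ * b⁻¹ : O) : O ⧸ K) = 1
    rw [QuotientGroup.mk_mul, QuotientGroup.mk_mul, QuotientGroup.mk_mul, this,
      QuotientGroup.mk_inv, QuotientGroup.mk_inv]
    group
  have hmemc : ∀ (l : Fin 5) (x y : List (Fin 5)), D.same ([l] ++ y ++ x) (x ++ y) → D.el l ∈ commutator O := by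
    intro l x y h
    have h' := D.wp_eq h
    rw [wp_append, wp_append, wp_append, wp_cons, wp_nil, mul_one, mul_assoc] at h'
    rw [eq_mul_inv_of_mul_eq h', _root_.mul_inv_rev, ← mul_assoc, _root_.commutator_def, ← commutatorElement_def]
    exact Subgroup.commutator_mem_commutator (Subgroup.mem_top _) (Subgroup.mem_top _)
  obtain ⟨a, ha⟩ : ∃ a : ↥(commutator O), (a : O) = D.el 0 := ⟨⟨_, hmemc 0 C.ax C.ay C.com0⟩, rfl⟩
  obtain ⟨b, hb⟩ : ∃ b : ↥(commutator O), (b : O) = D.el 1 := ⟨⟨_, hmemc 1 C.bx C.bY C.com1⟩, rfl⟩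
  -- normalisation at the first generator
  obtain ⟨v, hv⟩ : ∃ v, D.el 0 |>.1.1 *ᵥ v - v = f a := by
    have hinj : Function.Injective fun v => (D.el 0).1.1 *ᵥ v - v := by
      intro v w h
      simp only at h
      have h2 : (D.el 0).1.1 *ᵥ (v - w) = v - w := by
        rw [Matrix.mulVec_sub]
        exact sub_eq_sub_iff_sub_eq_sub.1 h
      have h3 := D.act 0 (v - w)
      rw [h2] at h3
      have h4 : enc D.code (v - w) = 0 := C.fpf _ (D.small _) h3.symm
      exact sub_eq_zero.1 (D.enc_inj (h4.trans D.enc_zero.symm))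
    exact (Finite.injective_iff_surjective.1 hinj) (f a)
  refine ⟨v, ?_⟩
  obtain ⟨φ, hφ⟩ : ∃ φ : ↥(commutator O) → (I → ZMod 2), φ = fun g => f g - ((g : O).1.1 *ᵥ v - v) := ⟨_, rfl⟩
  have hφmul : ∀ g h, φ (g * h) = φ g + (g : O).1.1 *ᵥ φ h := fun g h => by
    rw [hφ]
    simp only [hf, Matrix.mulVec_sub, Subgroup.coe_mul, Units.val_mul, ← Matrix.mulVec_mulVec]
    abel
  have hφ1 : φ 1 = 0 := by
    have h := hφmul 1 1
    rw [mul_one, OneMemClass.coe_one, OneMemClass.coe_one, Units.val_one, Matrix.one_mulVec] at h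
    simpa using h
  have hφinv : ∀ g, φ g⁻¹ = -((g⁻¹ : ↥(commutator O)) : O).1.1 *ᵥ φ g := fun g => by
    have h := hφmul g⁻¹ g
    rw [inv_mul_cancel, hφ1] at h
    rw [eq_neg_of_add_eq_zero_left h.symm, Matrix.neg_mulVec]
  have hφa : φ a = 0 := by rw [hφ]; simp only [ha, hv, sub_self]
  obtain ⟨u, hu⟩ : ∃ u, u = enc D.code (φ b) := ⟨_, rfl⟩
  have hacc : ∀ w : List (Fin 5), w.all (fun l => decide (l < 4)) = true →
      ∃ g : ↥(commutator O), (g : O) = D.wp w ∧ enc D.code (φ g) = accum D.cols u w := by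
    intro w
    induction w with
    | nil => exact fun _ => ⟨1, rfl, by rw [hφ1, enc_zero]; rfl⟩
    | cons l w ih =>
      intro hw
      rw [List.all_cons, Bool.and_eq_true] at hw
      obtain ⟨g, hg, hge⟩ := ih hw.2
      have hl : l < 4 := of_decide_eq_true hw.1
      obtain ⟨e, he, hee⟩ : ∃ e : ↥(commutator O), (e : O) = D.el l ∧
          enc D.code (φ e) = if l = 1 then u else if l = 3 then ap (D.cols 3) u else 0 := by
        fin_cases l
        · exact ⟨a, ha, by simp [hφa, enc_zero]⟩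
        · exact ⟨b, hb, by simp [hu]⟩
        · refine ⟨a⁻¹, by show ((a : O))⁻¹ = D.el 2; rw [ha, e2], ?_⟩
          rw [hφinv, hφa, Matrix.mulVec_zero]
          simp [enc_zero]
        · refine ⟨b⁻¹, by show ((b : O))⁻¹ = D.el 3; rw [hb, e3], ?_⟩
          rw [hφinv, Matrix.neg_mulVec, show ((b⁻¹ : ↥(commutator O)) : O) = D.el 3 by
            rw [Subgroup.coe_inv, hb, e3]]
          have hneg : ∀ x : I → ZMod 2, -x = x := fun x => funext fun i => CharTwo.neg_eq (x i)
          rw [hneg, D.act, ← hu]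
          simp
        · exact absurd hl (by decide)
      refine ⟨e * g, by rw [Subgroup.coe_mul, he, hg, wp_cons], ?_⟩
      rw [hφmul, enc_add, hee, he, D.act, hge]
      rfl
  have hu0 : u = 0 := by
    have hk := List.all_eq_true.1 C.kill u (List.mem_range.2 (hu ▸ D.small _))
    rw [Bool.or_eq_true, beq_iff_eq, List.any_eq_true] at hk
    refine hk.resolve_right ?_
    rintro ⟨w, hw, hne⟩
    obtain ⟨g, hg, hge⟩ := hacc w (List.all_eq_true.1 C.rels4 w hw)
    have hg1 : g = 1 := Subtype.ext (hg.trans (D.wp_eq (C.relOne w hw)))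
    rw [hg1, hφ1, enc_zero] at hge
    rw [← hge] at hne
    simp at hne
  have hφb : φ b = 0 := D.enc_inj ((hu.symm.trans hu0).trans D.enc_zero.symm)
  have hall : ∀ g : O, g ∈ K → ∃ hg : g ∈ commutator O, φ ⟨g, hg⟩ = 0 := by
    intro g hg
    rw [hK] at hg
    induction hg using Subgroup.closure_induction with
    | mem x hx =>
      rcases hx with rfl | rfl
      · exact ⟨ha ▸ a.2, (congrArg φ (Subtype.ext ha.symm)).trans hφa⟩
      · exact ⟨hb ▸ b.2, (congrArg φ (Subtype.ext hb.symm)).trans hφb⟩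
    | one => exact ⟨one_mem _, hφ1⟩
    | mul x y _ _ hx hy =>
      obtain ⟨hx1, hx2⟩ := hx
      obtain ⟨hy1, hy2⟩ := hy
      refine ⟨mul_mem hx1 hy1, ?_⟩
      rw [show (⟨x * y, mul_mem hx1 hy1⟩ : ↥(commutator O)) = ⟨x, hx1⟩ * ⟨y, hy1⟩ from rfl, hφmul, hx2, hy2,
        Matrix.mulVec_zero, add_zero]
    | inv x _ hx =>
      obtain ⟨hx1, hx2⟩ := hx
      refine ⟨inv_mem hx1, ?_⟩
      rw [show (⟨x⁻¹, inv_mem hx1⟩ : ↥(commutator O)) = ⟨x, hx1⟩⁻¹ from rfl, hφinv, hx2, Matrix.mulVec_zero]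
  intro g
  obtain ⟨_, h⟩ := hall _ (hcomm g.2)
  rw [hφ] at h
  exact sub_eq_zero.1 h

end Data

end Cfsg.Agent.H1Omega
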