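import Cfsg.Agent.Lib.H1Omega.Basic
import Cfsg.Agent.Lib.LinearGroups.OrthForms
import Cfsg.Agent.S0288

/-! Kernel checks for one orthogonal group over the field of two elements. -/

set_option autoImplicit false
set_option maxRecDepth 100000
set_option linter.all false

namespace Cfsg.Agent.H1Omega.MinusFour

open Matrix

abbrev I0 := (Fin 1 ⊕ Fin 1) ⊕ Fin 2

abbrev Q0 : (I0 → ZMod 2) → ZMod 2 := Cfsg.quadFormMinus 1 (ZMod 2) 1 1

def code : I0 ≃ Fin 4 := (Equiv.sumCongr finSumFinEquiv (Equiv.refl (Fin 2))).trans finSumFinEquiv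

def cols : Fin 5 → List ℕ := ![[2, 7, 14, 10], [2, 7, 10, 4], [15, 1, 12, 9], [11, 1, 8, 5], [2, 1, 4, 8]]

def g0 : Cfsg.isometryGroup (ZMod 2) Q0 := mkIso Q0 code (cols 0) (cols 2)
  (by decide +kernel) (by decide +kernel) (by decide +kernel)

def g1 : Cfsg.isometryGroup (ZMod 2) Q0 := mkIso Q0 code (cols 1) (cols 3)
  (by decide +kernel) (by decide +kernel) (by decide +kernel)

def g2 : Cfsg.isometryGroup (ZMod 2) Q0 := mkIso Q0 code (cols 2) (cols 0)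
  (by decide +kernel) (by decide +kernel) (by decide +kernel)

def g3 : Cfsg.isometryGroup (ZMod 2) Q0 := mkIso Q0 code (cols 3) (cols 1)
  (by decide +kernel) (by decide +kernel) (by decide +kernel)

def g4 : Cfsg.isometryGroup (ZMod 2) Q0 := mkIso Q0 code (cols 4) (cols 4)
  (by decide +kernel) (by decide +kernel) (by decide +kernel)

theorem act0 : ∀ v : I0 → ZMod 2, enc code (g0.1.1 *ᵥ v) = ap (cols 0) (enc code v) := by decide +kernel

theorem act1 : ∀ v : I0 → ZMod 2, enc code (g1.1.1 *ᵥ v) = ap (cols 1) (enc code v) := by decide +kernel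

theorem act2 : ∀ v : I0 → ZMod 2, enc code (g2.1.1 *ᵥ v) = ap (cols 2) (enc code v) := by decide +kernel

theorem act3 : ∀ v : I0 → ZMod 2, enc code (g3.1.1 *ᵥ v) = ap (cols 3) (enc code v) := by decide +kernel

theorem act4 : ∀ v : I0 → ZMod 2, enc code (g4.1.1 *ᵥ v) = ap (cols 4) (enc code v) := by decide +kernel

def data : Data Q0 4 where
  code := code
  el := ![g0, g1, g2, g3, g4]
  cols := cols
  act l := by
    fin_cases l
    exacts [act0, act1, act2, act3, act4]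
  bit := by decide +kernel
  small := by decide +kernel

def checks : data.Checks where
  ca := [0, 3, 0, 0]
  cb := [0, 3, 0, 1]
  ax := [1, 0, 4, 2, 3, 3, 4, 1, 0, 4, 2, 4, 2, 4, 0, 4]
  ay := [2, 4, 0, 1, 0, 4, 2, 3, 4, 2, 4, 0, 4]
  bx := [2, 2, 4, 0, 0, 2, 4, 0, 2, 4, 0, 4, 0, 4, 2, 4]
  bY := [2, 2, 4, 0, 0, 4, 2, 4, 0, 4, 2, 2, 4, 0, 0, 2, 4, 0, 4]
  rels := [[3, 2, 2, 1, 1, 1, 3, 2, 2, 1, 1, 1],
    [2, 3, 2, 3]]
  hca := by decide +kernel
  hcb := by decide +kernel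
  inv0 := by unfold Data.same; decide +kernel
  inv1 := by unfold Data.same; decide +kernel
  inv4 := by unfold Data.same; decide +kernel
  conj0 := by unfold Data.same; decide +kernel
  conj1 := by unfold Data.same; decide +kernel
  com0 := by unfold Data.same; decide +kernel
  com1 := by unfold Data.same; decide +kernel
  fpf := by decide +kernel
  rels4 := by decide +kernel
  relOne := by unfold Data.same; decide +kernel
  kill := by decide +kernel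

def allWords : List (List (Fin 5)) := [[],
  [0],
  [1],
  [2],
  [3],
  [4],
  [0, 0],
  [0, 1],
  [0, 3],
  [0, 4],
  [1, 0],
  [1, 1],
  [1, 2],
  [1, 4],
  [2, 1],
  [2, 2],
  [2, 4],
  [3, 0],
  [3, 3],
  [3, 4],
  [4, 0],
  [4, 1],
  [4, 2],
  [4, 3],
  [0, 0, 1],
  [0, 0, 3],
  [0, 0, 4],
  [0, 1, 1],
  [0, 1, 2],
  [0, 1, 4],
  [0, 3, 0],
  [0, 3, 3],
  [0, 3, 4],
  [0, 4, 0],
  [0, 4, 1],
  [0, 4, 2],
  [0, 4, 3],
  [1, 0, 0],
  [1, 0, 3],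
  [1, 0, 4],
  [1, 1, 0],
  [1, 1, 2],
  [1, 1, 4],
  [1, 2, 2],
  [1, 2, 4],
  [1, 4, 0],
  [1, 4, 1],
  [1, 4, 2],
  [2, 1, 0],
  [2, 1, 1],
  [2, 1, 2],
  [2, 1, 4],
  [2, 2, 1],
  [2, 2, 4],
  [2, 4, 0],
  [2, 4, 1],
  [2, 4, 2],
  [2, 4, 3],
  [3, 0, 0],
  [3, 0, 1],
  [3, 0, 4],
  [3, 3, 0],
  [3, 3, 4],
  [3, 4, 0],
  [3, 4, 1],
  [3, 4, 2],
  [3, 4, 3],
  [4, 0, 0],
  [4, 0, 1],
  [4, 0, 3],
  [4, 0, 4],
  [4, 1, 0],
  [4, 1, 1],
  [4, 1, 2],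
  [4, 1, 4],
  [4, 2, 2],
  [4, 2, 4],
  [4, 3, 3],
  [4, 3, 4],
  [0, 0, 1, 1],
  [0, 0, 1, 2],
  [0, 0, 3, 0],
  [0, 0, 3, 3],
  [0, 0, 4, 0],
  [0, 0, 4, 3],
  [0, 1, 1, 0],
  [0, 1, 1, 4],
  [0, 1, 4, 0],
  [0, 1, 4, 2],
  [0, 3, 0, 4],
  [0, 3, 3, 0],
  [0, 3, 3, 4],
  [0, 3, 4, 3],
  [0, 4, 0, 1],
  [0, 4, 0, 3],
  [0, 4, 0, 4],
  [0, 4, 1, 4],
  [0, 4, 3, 3],
  [0, 4, 3, 4],
  [1, 0, 0, 1],
  [1, 0, 0, 4],
  [1, 1, 0, 3],
  [1, 1, 4, 1],
  [1, 2, 2, 4],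
  [2, 1, 0, 0],
  [2, 1, 0, 3],
  [2, 1, 1, 0],
  [2, 1, 2, 2],
  [2, 2, 1, 1],
  [2, 4, 0, 0],
  [2, 4, 0, 1],
  [3, 0, 1, 1],
  [3, 0, 1, 2],
  [3, 4, 1, 1],
  [4, 0, 1, 4],
  [4, 1, 0, 4],
  [0, 0, 1, 1, 0],
  [0, 0, 3, 3, 4],
  [0, 1, 1, 0, 3],
  [2, 4, 0, 1, 4]]

theorem distinct : ((allWords.map fun w => (List.range 4).map fun k => evalW cols w (2 ^ k))).Nodup := by
  decide +kernel

theorem gen (g : Cfsg.isometryGroup (ZMod 2) Q0) : g ∈ Subgroup.closure (Set.range data.el) := by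
  classical
  have hcard := S0288.result (F := ZMod 2) (q := 2) (by simp) 2 (by norm_num) 1 1 (by decide +kernel)
  have hnd : (allWords.map data.wp).Nodup := by
    refine List.Nodup.of_map (fun h => (List.range 4).map fun k => enc code (h.1.1 *ᵥ Pi.single (code.symm ⟨k % 4, Nat.mod_lt _ (by norm_num)⟩) 1)) ?_
    rw [List.map_map]
    refine Eq.mpr (congrArg List.Nodup (List.map_congr_left fun w _ => ?_)) distinct
    refine List.map_congr_left fun k hk => ?_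
    show enc data.code ((data.wp w).1.1 *ᵥ _) = _
    rw [data.act_wp, data.enc_single]
    show evalW cols w (2 ^ ((code (code.symm _)) : ℕ)) = _
    rw [Equiv.apply_symm_apply]
    simp [Nat.mod_eq_of_lt (List.mem_range.1 hk)]
  have huniv : (allWords.map data.wp).toFinset = Finset.univ := by
    refine Finset.eq_univ_of_card _ ?_
    rw [List.toFinset_card_of_nodup hnd, List.length_map, ← Nat.card_eq_fintype_card, hcard]
    rfl
  have hg := Finset.mem_univ g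
  rw [← huniv, List.mem_toFinset, List.mem_map] at hg
  obtain ⟨w, -, rfl⟩ := hg
  refine Subgroup.list_prod_mem _ fun x hx => ?_
  obtain ⟨l, -, rfl⟩ := List.mem_map.1 hx
  exact Subgroup.subset_closure ⟨l, rfl⟩

end Cfsg.Agent.H1Omega.MinusFour
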