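import Cfsg.Agent.Lib.H1Omega.Basic
import Cfsg.Agent.Lib.LinearGroups.OrthForms

/-! Kernel checks for one orthogonal group over the field of two elements. -/

set_option autoImplicit false
set_option maxRecDepth 100000
set_option linter.all false

namespace Cfsg.Agent.H1Omega.MinusSix

open Matrix

abbrev I0 := (Fin 2 ⊕ Fin 2) ⊕ Fin 2

abbrev Q0 : (I0 → ZMod 2) → ZMod 2 := Cfsg.quadFormMinus 2 (ZMod 2) 1 1

def code : I0 ≃ Fin 6 := (Equiv.sumCongr finSumFinEquiv (Equiv.refl (Fin 2))).trans finSumFinEquiv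

def cols : Fin 5 → List ℕ := ![[46, 42, 1, 59, 10, 24], [45, 23, 2, 55, 35, 38], [4, 62, 3, 46, 14, 18], [30, 4, 46, 59, 54, 10], [4, 2, 1, 8, 16, 32]]

def g0 : Cfsg.isometryGroup (ZMod 2) Q0 := mkIso Q0 code (cols 0) (cols 2)
  (by decide +kernel) (by decide +kernel) (by decide +kernel)

def g1 : Cfsg.isometryGroup (ZMod 2) Q0 := mkIso Q0 code (cols 1) (cols 3)
  (by decide +kernel) (by decide +kernel) (by decide +kernel)

def g2 : Cfsg.isometryGroup (ZMod 2) Q0 := mkIso Q0 code (cols 2) (cols 0)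
  (by decide +kernel) (by decide +kernel) (by decide +kernel)

def g3 : Cfsg.isometryGroup (ZMod 2) Q0 := mkIso Q0 code (cols 3) (cols 1)
  (by decide +kernel) (by decide +kernel) (by decide +kernel)

def g4 : Cfsg.isometryGroup (ZMod 2) Q0 := mkIso Q0 code (cols 4) (cols 4)
  (by decide +kernel) (by decide +kernel) (by decide +kernel)

theorem act0 : ∀ v : I0 → ZMod 2, enc code (g0.1.1 *ᵥ v) = ap (cols 0) (enc code v) := by decide +kernel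

theorem act1 : ∀ v : I0 → ZMod 2, enc code (g1.1.1 *ᵥ v) = ap (cols 1) (enc code v) := by decide +kernel

theorem act2 : ∀ v : I0 → ZMod 2, enc code (g2.1.1 *ᵥ v) = ap (cols 2) (enc code v) := by decide +kernel

theorem act3 : ∀ v : I0 → ZMod 2, enc code (g3.1.1 *ᵥ v) = ap (cols 3) (enc code v) := by decide +kernel

theorem act4 : ∀ v : I0 → ZMod 2, enc code (g4.1.1 *ᵥ v) = ap (cols 4) (enc code v) := by decide +kernel

def data : Data Q0 6 where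
  code := code
  el := ![g0, g1, g2, g3, g4]
  cols := cols
  act l := by
    fin_cases l
    exacts [act0, act1, act2, act3, act4]
  bit := by decide +kernel
  small := by decide +kernel

def checks : data.Checks where
  ca := [3, 2, 2, 2, 3, 3, 0, 0, 0, 3]
  cb := [3, 2, 3, 2, 1, 0, 3, 0, 3, 2]
  ax := [2, 2, 2, 4, 0, 0, 0, 0, 0, 0, 4, 2, 2, 2, 3, 2, 4, 0, 1]
  ay := [4, 0, 0, 4, 2, 2, 4, 0, 0, 3, 2, 4, 0, 1, 2, 2, 0, 3, 2, 4, 0, 1, 2, 3, 4, 0, 0, 4, 2, 2, 4, 1, 0, 0, 4, 2, 2, 3, 0, 0, 4, 2, 2, 1]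
  bx := [0, 0, 1, 0, 4, 2, 3, 2, 2, 2, 2, 4, 0, 0, 2, 4, 0, 3, 2, 2, 4, 0, 0, 1, 2, 2, 4, 0, 0, 1, 0, 4, 2, 3]
  bY := [3, 3, 4, 1, 1, 2, 4, 0, 2, 2, 4, 0, 0, 4, 0, 0, 4, 2, 2, 4]
  rels := [[1, 1, 1, 1, 1],
    [3, 2, 2, 0, 3, 2, 2, 0, 3, 2, 2, 0, 3, 2, 2, 0, 3, 2, 2, 0],
    [0, 1, 1, 1, 0, 0, 1, 1, 1, 0, 0, 1, 1, 1, 0, 0, 1, 1, 1, 0, 0, 1, 1, 1, 0],
    [1, 0, 1, 1, 1, 3, 1, 0, 1, 1, 1, 3, 1, 0, 1, 1, 1, 3]]
  hca := by decide +kernel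
  hcb := by decide +kernel
  inv0 := by unfold Data.same; decide +kernel
  inv1 := by unfold Data.same; decide +kernel
  inv4 := by unfold Data.same; decide +kernel
  conj0 := by unfold Data.same; decide +kernel
  conj1 := by unfold Data.same; decide +kernel
  com0 := by unfold Data.same; decide +kernel
  com1 := by unfold Data.same; decide +kernel
  fpf := by decide +kernel
  rels4 := by decide +kernel
  relOne := by unfold Data.same; decide +kernel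
  kill := by decide +kernel

def reflWords : List (ℕ × List (Fin 5)) := [(5, [4]),
  (7, [2, 4, 0]),
  (10, [3, 3, 0, 0, 4, 2, 2, 1, 1]),
  (11, [3, 0, 1, 0, 4, 2, 3, 2, 1]),
  (13, [0, 1, 0, 4, 2, 3, 2]),
  (14, [0, 0, 3, 2, 4, 0, 1, 2, 2]),
  (16, [3, 4, 0, 0, 4, 2, 2, 4, 1]),
  (17, [1, 0, 3, 3, 4, 1, 1, 2, 3]),
  (18, [0, 3, 4, 1, 2]),
  (19, [0, 3, 2, 4, 0, 1, 2]),
  (20, [0, 0, 1, 0, 4, 2, 3, 2, 2]),
  (22, [1, 2, 3, 4, 1, 0, 3]),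
  (24, [0, 3, 0, 0, 4, 2, 2, 1, 2]),
  (25, [3, 2, 2, 4, 0, 0, 1]),
  (28, [2, 3, 4, 1, 0]),
  (31, [1, 2, 2, 4, 0, 0, 3]),
  (32, [3, 0, 0, 4, 2, 2, 1]),
  (33, [2, 2, 2, 2, 4, 0, 0, 0, 0]),
  (34, [0, 4, 1, 0, 4, 2, 3, 4, 2]),
  (35, [4, 0, 0, 4, 2, 2, 4]),
  (36, [2, 3, 2, 2, 4, 0, 0, 1, 0]),
  (38, [0, 0, 4, 2, 2]),
  (40, [0, 3, 3, 4, 1, 1, 2]),
  (41, [1, 0, 4, 2, 3]),
  (44, [4, 1, 0, 4, 2, 3, 4]),
  (47, [0, 4, 2]),
  (48, [3, 4, 1]),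
  (49, [4, 3, 2, 4, 0, 1, 4]),
  (50, [1, 1, 2, 4, 0, 3, 3]),
  (51, [0, 0, 0, 4, 2, 2, 2]),
  (52, [3, 2, 4, 0, 1]),
  (54, [2, 2, 2, 4, 0, 0, 0]),
  (56, [1, 2, 4, 0, 3]),
  (57, [2, 2, 4, 0, 0]),
  (60, [3, 3, 4, 1, 1]),
  (63, [1, 0, 0, 0, 4, 2, 2, 2, 3])]

def reflWord (x : ℕ) : List (Fin 5) := (reflWords.lookup x).getD []

theorem refl_ok : ∀ v : I0 → ZMod 2, Q0 v = 1 → ∀ i : I0,
    evalW cols (reflWord (enc code v)) (2 ^ (code i : ℕ)) =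
      enc code (Pi.single i 1 + (Q0 (Pi.single i 1 + v) - Q0 (Pi.single i 1) - Q0 v) • v) := by
  decide +kernel

theorem gen (g : Cfsg.isometryGroup (ZMod 2) Q0) : g ∈ Subgroup.closure (Set.range data.el) := by
  obtain ⟨Q, hQ, hnd⟩ := OrthForms.exists_qMinus (F := ZMod 2) 2 1 1 (by decide +kernel)
  exact data.gen_of_refl Q hQ hnd (by decide) reflWord refl_ok g

end Cfsg.Agent.H1Omega.MinusSix
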