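import Cfsg.Agent.Lib.H1Omega.Basic
import Cfsg.Agent.Lib.LinearGroups.OrthForms

/-! Kernel checks for one orthogonal group over the field of two elements. -/

set_option autoImplicit false
set_option maxRecDepth 100000
set_option linter.all false

namespace Cfsg.Agent.H1Omega.PlusEight

open Matrix

abbrev I0 := Fin 4 ⊕ Fin 4

abbrev Q0 : (I0 → ZMod 2) → ZMod 2 := Cfsg.quadFormPlus 4 (ZMod 2)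

def code : I0 ≃ Fin 8 := finSumFinEquiv

def cols : Fin 5 → List ℕ := ![[96, 87, 128, 22, 195, 112, 126, 176], [245, 90, 193, 183, 150, 55, 18, 206], [174, 30, 55, 73, 33, 165, 164, 4], [183, 146, 120, 217, 210, 175, 155, 40], [16, 2, 4, 8, 1, 32, 64, 128]]

def g0 : Cfsg.isometryGroup (ZMod 2) Q0 := mkIso Q0 code (cols 0) (cols 2)
  (by decide +kernel) (by decide +kernel) (by decide +kernel)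

def g1 : Cfsg.isometryGroup (ZMod 2) Q0 := mkIso Q0 code (cols 1) (cols 3)
  (by decide +kernel) (by decide +kernel) (by decide +kernel)

def g2 : Cfsg.isometryGroup (ZMod 2) Q0 := mkIso Q0 code (cols 2) (cols 0)
  (by decide +kernel) (by decide +kernel) (by decide +kernel)

def g3 : Cfsg.isometryGroup (ZMod 2) Q0 := mkIso Q0 code (cols 3) (cols 1)
  (by decide +kernel) (by decide +kernel) (by decide +kernel)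

def g4 : Cfsg.isometryGroup (ZMod 2) Q0 := mkIso Q0 code (cols 4) (cols 4)
  (by decide +kernel) (by decide +kernel) (by decide +kernel)

theorem act0 : ∀ v : I0 → ZMod 2, enc code (g0.1.1 *ᵥ v) = ap (cols 0) (enc code v) := by decide +kernel

theorem act1 : ∀ v : I0 → ZMod 2, enc code (g1.1.1 *ᵥ v) = ap (cols 1) (enc code v) := by decide +kernel

theorem act2 : ∀ v : I0 → ZMod 2, enc code (g2.1.1 *ᵥ v) = ap (cols 2) (enc code v) := by decide +kernel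

theorem act3 : ∀ v : I0 → ZMod 2, enc code (g3.1.1 *ᵥ v) = ap (cols 3) (enc code v) := by decide +kernel

theorem act4 : ∀ v : I0 → ZMod 2, enc code (g4.1.1 *ᵥ v) = ap (cols 4) (enc code v) := by decide +kernel

def data : Data Q0 8 where
  code := code
  el := ![g0, g1, g2, g3, g4]
  cols := cols
  act l := by
    fin_cases l
    exacts [act0, act1, act2, act3, act4]
  bit := by decide +kernel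
  small := by decide +kernel

def checks : data.Checks where
  ca := [1, 1, 0, 3, 2, 1, 0, 3, 3, 2, 2, 3, 2, 1, 2, 1, 2, 2]
  cb := [1, 0, 1, 0, 1, 1, 0, 3, 3, 2, 3, 3, 3, 2, 3, 2, 3, 0]
  ax := [2, 3, 3, 0, 4, 2, 1, 1, 0, 0, 1, 0, 0, 4, 2, 2, 3, 2, 3, 4, 0, 4, 2, 4, 1, 4, 3, 4, 2, 4, 0, 4, 1, 4]
  ay := [4, 1, 4, 3, 4, 0, 1, 2, 2, 4, 0, 0, 3, 2, 1, 4, 3, 1, 0, 1, 0, 4, 2, 3, 2, 3, 2, 4, 0, 1, 0, 3, 0, 4, 2, 1, 2, 3, 0, 0, 1, 1, 0, 4, 2, 3, 3, 2, 2]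
  bx := [2, 1, 0, 1, 4, 3, 2, 3, 0, 1, 4, 0, 4, 2, 4, 3, 1, 2, 2, 1, 4, 3, 0, 0, 3, 1, 0, 1, 4, 3, 2, 3, 2, 2, 4, 1, 4, 3, 4, 0, 0, 3, 4, 0, 4, 2, 4, 1, 0, 1, 0, 0, 4, 2, 2, 3, 2]
  bY := [2, 1, 4, 3, 0, 1, 4, 1, 0, 4, 2, 3, 4, 3, 3, 4, 2, 4, 0, 4, 1, 0, 0, 1, 4, 3, 2, 2, 2, 3, 2, 4, 0, 1, 0, 2, 1, 0, 0, 4, 2, 2, 3, 0, 3, 3, 3, 4, 1, 1, 1]
  rels := [[3, 0, 0, 1, 3, 3, 0, 0, 1, 3, 3, 0, 0, 1, 3, 3, 0, 0, 1, 3, 3, 0, 0, 1, 3, 3, 0, 0, 1, 3, 3, 0, 0, 1, 3],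
    [0, 3, 0, 3, 0, 3, 0, 3, 0, 3, 0, 3, 0, 3, 0, 3, 0, 3, 0, 3, 0, 3, 0, 3, 0, 3, 0, 3, 0, 3],
    [3, 0, 3, 3, 0, 3, 3, 0, 3, 3, 0, 3, 3, 0, 3, 3, 0, 3, 3, 0, 3, 3, 0, 3, 3, 0, 3, 3, 0, 3, 3, 0, 3, 3, 0, 3, 3, 0, 3, 3, 0, 3, 3, 0, 3],
    [3, 2, 1, 3, 2, 3, 3, 2, 1, 3, 2, 3, 3, 2, 1, 3, 2, 3, 3, 2, 1, 3, 2, 3, 3, 2, 1, 3, 2, 3, 3, 2, 1, 3, 2, 3, 3, 2, 1, 3, 2, 3, 3, 2, 1, 3, 2, 3, 3, 2, 1, 3, 2, 3, 3, 2, 1, 3, 2, 3, 3, 2, 1, 3, 2, 3, 3, 2, 1, 3, 2, 3, 3, 2, 1, 3, 2, 3, 3, 2, 1, 3, 2, 3, 3, 2, 1, 3, 2, 3],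
    [3, 0, 1, 0, 3, 0, 1, 0, 3, 0, 1, 0, 3, 0, 1, 0, 3, 0, 1, 0, 3, 0, 1, 0, 3, 0, 1, 0]]
  hca := by decide +kernel
  hcb := by decide +kernel
  inv0 := by unfold Data.same; decide +kernel
  inv1 := by unfold Data.same; decide +kernel
  inv4 := by unfold Data.same; decide +kernel
  conj0 := by unfold Data.same; decide +kernel
  conj1 := by unfold Data.same; decide +kernel
  com0 := by unfold Data.same; decide +kernel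
  com1 := by unfold Data.same; decide +kernel
  fpf := by decide +kernel
  rels4 := by decide +kernel
  relOne := by unfold Data.same; decide +kernel
  kill := by decide +kernel

def reflWords : List (ℕ × List (Fin 5)) := [(17, [4]),
  (19, [1, 0, 0, 4, 2, 2, 3]),
  (21, [3, 3, 0, 4, 2, 1, 1]),
  (23, [1, 2, 4, 0, 3]),
  (25, [0, 3, 4, 1, 0, 4, 2, 3, 4, 1, 2]),
  (27, [1, 2, 2, 1, 4, 3, 0, 0, 3]),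
  (29, [3, 3, 3, 0, 4, 2, 1, 1, 1]),
  (31, [1, 1, 0, 4, 2, 3, 3]),
  (34, [1, 0, 0, 4, 0, 4, 2, 4, 2, 2, 3]),
  (35, [1, 1, 1, 4, 3, 3, 3]),
  (38, [3, 3, 2, 4, 0, 1, 1]),
  (39, [2, 3, 4, 0, 4, 2, 4, 1, 0]),
  (42, [2, 1, 2, 2, 4, 0, 0, 3, 0]),
  (43, [1, 2, 1, 1, 4, 3, 3, 0, 3]),
  (46, [2, 2, 1, 4, 3, 0, 0]),
  (47, [3, 0, 3, 4, 1, 2, 1]),
  (49, [1, 2, 2, 4, 0, 0, 3]),
  (50, [3, 3, 3, 4, 1, 1, 1]),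
  (53, [1, 4, 0, 4, 2, 4, 3]),
  (54, [1, 0, 3, 0, 4, 2, 1, 2, 3]),
  (57, [0, 1, 4, 3, 2]),
  (58, [1, 1, 0, 3, 0, 4, 2, 1, 2, 3, 3]),
  (61, [0, 0, 4, 0, 4, 2, 4, 2, 2]),
  (62, [2, 4, 1, 4, 3, 4, 0]),
  (68, [0, 3, 0, 0, 4, 2, 2, 1, 2]),
  (69, [2, 4, 2, 4, 0, 4, 0]),
  (70, [3, 4, 2, 3, 4, 1, 0, 4, 1]),
  (71, [4, 1, 0, 4, 2, 3, 4]),
  (76, [2, 1, 0, 0, 1, 4, 3, 2, 2, 3, 0]),
  (77, [0, 4, 3, 4, 1, 4, 2]),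
  (78, [2, 2, 3, 0, 4, 2, 1, 0, 0]),
  (79, [0, 0, 1, 0, 4, 2, 3, 2, 2]),
  (81, [2, 2, 3, 3, 4, 1, 1, 0, 0]),
  (83, [2, 1, 1, 4, 3, 3, 0]),
  (84, [0, 4, 0, 4, 2, 4, 2]),
  (86, [1, 0, 4, 2, 3]),
  (89, [0, 0, 1, 1, 0, 4, 2, 3, 3, 2, 2]),
  (91, [0, 1, 4, 1, 0, 4, 2, 3, 4, 3, 2]),
  (92, [0, 3, 3, 4, 1, 1, 2]),
  (94, [4, 0, 0, 1, 0, 4, 2, 3, 2, 2, 4]),
  (98, [0, 1, 1, 0, 4, 2, 3, 3, 2]),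
  (99, [1, 4, 3]),
  (100, [0, 1, 0, 3, 0, 4, 2, 1, 2, 3, 2]),
  (101, [3, 4, 1]),
  (106, [0, 1, 0, 4, 2, 3, 2]),
  (107, [0, 1, 1, 2, 4, 0, 3, 3, 2]),
  (108, [2, 2, 3, 4, 1, 0, 0]),
  (109, [2, 1, 1, 2, 4, 0, 3, 3, 0]),
  (113, [0, 3, 3, 2, 1, 4, 3, 0, 1, 1, 2]),
  (114, [4, 1, 4, 3, 4]),
  (116, [4, 3, 4, 1, 4]),
  (119, [3, 2, 3, 3, 4, 1, 1, 0, 1]),
  (121, [0, 3, 4, 0, 4, 2, 4, 1, 2]),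
  (122, [4, 0, 1, 1, 2, 4, 0, 3, 3, 2, 4]),
  (124, [1, 4, 1, 0, 4, 2, 3, 4, 3]),
  (127, [0, 0, 3, 4, 1, 2, 2]),
  (136, [1, 0, 1, 1, 4, 3, 3, 2, 3]),
  (137, [4, 2, 3, 4, 1, 0, 4]),
  (138, [1, 1, 4, 3, 3]),
  (139, [4, 1, 2, 1, 4, 3, 0, 3, 4]),
  (140, [2, 3, 3, 2, 4, 0, 1, 1, 0]),
  (141, [1, 2, 4, 1, 4, 3, 4, 0, 3]),
  (142, [3, 3, 2, 1, 4, 3, 0, 1, 1]),
  (143, [2, 4, 0]),
  (145, [2, 1, 0, 0, 4, 2, 2, 3, 0]),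
  (147, [3, 0, 0, 4, 2, 2, 1]),
  (149, [2, 3, 0, 0, 4, 2, 2, 1, 0]),
  (151, [0, 3, 0, 4, 2, 1, 2]),
  (152, [2, 3, 4, 1, 0]),
  (154, [1, 2, 1, 4, 3, 0, 3]),
  (156, [3, 2, 2, 1, 4, 3, 0, 0, 1]),
  (158, [4, 2, 4, 0, 4]),
  (162, [3, 0, 4, 2, 1]),
  (163, [0, 4, 2]),
  (166, [2, 1, 2, 4, 0, 3, 0]),
  (167, [3, 0, 3, 0, 4, 2, 1, 2, 1]),
  (168, [3, 2, 2, 3, 0, 4, 2, 1, 0, 0, 1]),
  (169, [1, 1, 4, 1, 4, 3, 4, 3, 3]),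
  (172, [3, 2, 4, 0, 1]),
  (173, [1, 2, 1, 0, 0, 4, 2, 2, 3, 0, 3]),
  (177, [2, 1, 4, 3, 0]),
  (178, [4, 0, 4, 2, 4]),
  (181, [2, 1, 0, 1, 4, 3, 2, 3, 0]),
  (182, [1, 2, 3, 0, 4, 2, 1, 0, 3]),
  (184, [2, 3, 3, 0, 4, 2, 1, 1, 0]),
  (187, [0, 0, 3, 4, 0, 4, 2, 4, 1, 2, 2]),
  (188, [1, 0, 1, 0, 0, 4, 2, 2, 3, 2, 3]),
  (191, [2, 3, 0, 4, 2, 1, 0]),
  (196, [0, 0, 3, 0, 4, 2, 1, 2, 2]),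
  (197, [0, 0, 1, 4, 3, 2, 2]),
  (198, [3, 4, 1, 0, 4, 2, 3, 4, 1]),
  (199, [3, 4, 0, 4, 2, 4, 1]),
  (200, [1, 0, 1, 0, 4, 2, 3, 2, 3]),
  (201, [3, 4, 2, 4, 0, 4, 1]),
  (202, [2, 2, 4, 0, 0]),
  (203, [2, 1, 2, 3, 4, 1, 0, 3, 0]),
  (209, [3, 2, 3, 0, 4, 2, 1, 0, 1]),
  (211, [0, 1, 2, 2, 4, 0, 0, 3, 2]),
  (212, [4, 0, 0, 1, 4, 3, 2, 2, 4]),
  (214, [4, 3, 4, 0, 4, 2, 4, 1, 4]),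
  (216, [4, 3, 4, 2, 4, 0, 4, 1, 4]),
  (218, [3, 3, 0, 3, 0, 4, 2, 1, 2, 1, 1]),
  (221, [2, 3, 3, 4, 1, 1, 0]),
  (223, [2, 3, 2, 4, 0, 1, 0]),
  (226, [3, 2, 1, 4, 3, 0, 1]),
  (227, [1, 0, 1, 4, 3, 2, 3]),
  (228, [2, 2, 4, 1, 4, 3, 4, 0, 0]),
  (229, [3, 2, 3, 2, 4, 0, 1, 0, 1]),
  (232, [1, 0, 0, 1, 4, 3, 2, 2, 3]),
  (233, [1, 4, 1, 4, 3, 4, 3]),
  (238, [0, 3, 4, 1, 2]),
  (239, [1, 2, 3, 4, 1, 0, 3]),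
  (241, [0, 1, 1, 4, 3, 3, 2]),
  (242, [4, 1, 0, 1, 4, 3, 2, 3, 4]),
  (244, [0, 1, 0, 0, 4, 2, 2, 3, 2]),
  (247, [0, 0, 4, 2, 2]),
  (248, [1, 1, 2, 4, 0, 3, 3]),
  (251, [3, 3, 4, 1, 1]),
  (253, [0, 0, 1, 0, 0, 4, 2, 2, 3, 2, 2]),
  (254, [4, 1, 2, 3, 4, 1, 0, 3, 4])]

def reflWord (x : ℕ) : List (Fin 5) := (reflWords.lookup x).getD []

theorem refl_ok : ∀ v : I0 → ZMod 2, Q0 v = 1 → ∀ i : I0,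
    evalW cols (reflWord (enc code v)) (2 ^ (code i : ℕ)) =
      enc code (Pi.single i 1 + (Q0 (Pi.single i 1 + v) - Q0 (Pi.single i 1) - Q0 v) • v) := by
  decide +kernel

theorem gen (g : Cfsg.isometryGroup (ZMod 2) Q0) : g ∈ Subgroup.closure (Set.range data.el) :=
  data.gen_of_refl (OrthOrder.qPlus 4 (ZMod 2)) (funext fun v => OrthOrder.qPlus_apply 4 v)
    (OrthForms.qPlus_nondeg 4) (by decide) reflWord refl_ok g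

end Cfsg.Agent.H1Omega.PlusEight
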